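import Groth.Agent.CubicExtLib.Basic

/-!
# Torsion-free modules and `Ext¹`
-/

set_option autoImplicit false
set_option backward.isDefEq.respectTransparency false
set_option linter.style.haveILetI false

universe u

open CategoryTheory Abelian

namespace Groth.Agent.TFDualLib

variable {O : Type u} [CommRing O]

/-- A finitely generated torsion-free module over a domain embeds in a finite free one. -/
theorem exists_injective_pi [IsDomain O] (K : Type u) [Field K] [Algebra O K] [IsFractionRing O K]
    (M : Type u) [AddCommGroup M] [Module O M] [Module.Finite O M] [NoZeroSMulDivisors O M] :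
    ∃ (n : ℕ) (f : M →ₗ[O] (Fin n → O)), Function.Injective f := by
  classical
  let b := Module.finBasis K (TensorProduct O K M)
  let n := Module.finrank K (TensorProduct O K M)
  let g : M →ₗ[O] (Fin n → K) :=
    ((b.equivFun.toLinearMap).restrictScalars O).comp ((TensorProduct.mk O K M) 1)
  have hg : Function.Injective g := by
    refine b.equivFun.injective.comp ?_
    intro x y h
    have : IsLocalizedModule (nonZeroDivisors O) (TensorProduct.mk O K M 1) :=
      (isLocalizedModule_iff_isBaseChange (nonZeroDivisors O) K _).2 (TensorProduct.isBaseChange O M K)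
    obtain ⟨c, hc⟩ := (IsLocalizedModule.eq_iff_exists (nonZeroDivisors O) (TensorProduct.mk O K M 1)).1 h
    exact smul_right_injective M (nonZeroDivisors.coe_ne_zero c) hc
  obtain ⟨s, hs⟩ := Module.Finite.fg_top (R := O) (M := M)
  obtain ⟨d, hd⟩ := IsLocalization.exist_integer_multiples (nonZeroDivisors O)
    (s ×ˢ (Finset.univ : Finset (Fin n))) (fun p => g p.1 p.2)
  let g' : M →ₗ[O] (Fin n → K) := (d : O) • g
  have hmem : ∀ m i, g' m i ∈ LinearMap.range (Algebra.linearMap O K) := by
    intro m i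
    have hm : m ∈ Submodule.span O (s : Set M) := hs ▸ Submodule.mem_top
    induction hm using Submodule.span_induction with
    | mem x hx =>
      obtain ⟨o, ho⟩ := hd (x, i) (Finset.mem_product.2 ⟨hx, Finset.mem_univ i⟩)
      exact ⟨o, ho⟩
    | zero => simp
    | add x y _ _ hx hy => rw [map_add]; exact add_mem hx hy
    | smul a x _ hx => rw [map_smul]; exact Submodule.smul_mem _ a hx
  let E := LinearEquiv.ofInjective (Algebra.linearMap O K) (IsFractionRing.injective O K)
  refine ⟨n, LinearMap.pi fun i =>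
    E.symm.toLinearMap ∘ₗ (LinearMap.proj i ∘ₗ g').codRestrict _ (fun m => hmem m i), fun x y h => hg ?_⟩
  funext i
  have := congrFun h i
  simp only [LinearMap.pi_apply, LinearMap.comp_apply, LinearEquiv.coe_coe, EmbeddingLike.apply_eq_iff_eq,
    Subtype.ext_iff, LinearMap.codRestrict_apply, LinearMap.proj_apply] at this
  simp only [g', LinearMap.smul_apply, Pi.smul_apply] at this
  exact smul_right_injective K (nonZeroDivisors.coe_ne_zero d) this

/-- Modules inside free ones have no higher extensions by modules of injective dimension one. -/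
theorem subsingleton_ext {P M W : Type u} [AddCommGroup P] [Module O P] [Module.Projective O P]
    [AddCommGroup M] [Module O M] [AddCommGroup W] [Module O W]
    (hW : HasInjectiveDimensionLT (ModuleCat.of O W) 2) (f : M →ₗ[O] P) (hf : Function.Injective f)
    (i : ℕ) (hi : 1 ≤ i) : Subsingleton (Ext.{u} (ModuleCat.of O M) (ModuleCat.of O W) i) := by
  rcases Nat.lt_or_ge i 2 with h | h
  swap
  · exact HasInjectiveDimensionLT.subsingleton (hX := hW) (ModuleCat.of O W) 2 i h _
  obtain rfl : i = 1 := by omega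
  let S : ShortComplex (ModuleCat.{u} O) := ShortComplex.mk (ModuleCat.ofHom f)
    (ModuleCat.ofHom (LinearMap.range f).mkQ) (by ext x; simp)
  have hS : S.ShortExact :=
    { exact := (ShortComplex.ShortExact.moduleCat_exact_iff_function_exact _).2 (LinearMap.exact_map_mkQ_range f)
      mono_f := (ModuleCat.mono_iff_injective _).2 hf
      epi_g := (ModuleCat.epi_iff_surjective _).2 (Submodule.mkQ_surjective _) }
  haveI : Projective S.X₂ := (IsProjective.iff_projective P).1 inferInstance
  haveI : Subsingleton (Ext.{u} S.X₃ (ModuleCat.of O W) 2) :=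
    HasInjectiveDimensionLT.subsingleton (hX := hW) (ModuleCat.of O W) 2 2 le_rfl S.X₃
  refine subsingleton_of_forall_eq 0 fun x => ?_
  obtain ⟨x₂, hx₂⟩ := Ext.contravariant_sequence_exact₁ hS _ x (n₁ := 2) rfl (Subsingleton.elim _ _)
  have hx0 : x₂ = 0 := Ext.eq_zero_of_projective x₂
  rw [← hx₂, hx0]
  simp

/-- `Ext¹` as a cokernel of restriction along a projective presentation. -/
theorem addEquiv_ext_one_contravariant {K P M N : Type u} [AddCommGroup K] [Module O K]
    [AddCommGroup P] [Module O P] [Module.Projective O P] [AddCommGroup M] [Module O M]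
    [AddCommGroup N] [Module O N]
    (i : K →ₗ[O] P) (p : P →ₗ[O] M) (hi : Function.Injective i) (hp : Function.Surjective p)
    (hip : Function.Exact i p) :
    Nonempty (Ext.{u} (ModuleCat.of O M) (ModuleCat.of O N) 1 ≃+
      ((K →ₗ[O] N) ⧸ LinearMap.range (LinearMap.lcomp O N i))) := by
  let S : ShortComplex (ModuleCat.{u} O) := ShortComplex.mk (ModuleCat.ofHom i) (ModuleCat.ofHom p) (by
    ext x; exact hip.apply_apply_eq_zero x)
  have hS : S.ShortExact :=
    { exact := (ShortComplex.ShortExact.moduleCat_exact_iff_function_exact _).2 hip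
      mono_f := (ModuleCat.mono_iff_injective _).2 hi
      epi_g := (ModuleCat.epi_iff_surjective _).2 hp }
  haveI : Projective S.X₂ := (IsProjective.iff_projective P).1 inferInstance
  let D : (K →ₗ[O] N) →+ Ext.{u} S.X₃ (ModuleCat.of O N) 1 :=
    { toFun := fun φ => hS.extClass.comp (Ext.mk₀ (ModuleCat.ofHom φ : S.X₁ ⟶ ModuleCat.of O N)) (add_zero 1)
      map_zero' := by rw [ModuleCat.ofHom_zero, Ext.mk₀_zero, Ext.comp_zero]
      map_add' := fun φ ψ => by rw [ModuleCat.ofHom_add, Ext.mk₀_add, Ext.comp_add] }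
  have hD : Function.Surjective D := fun x => by
    obtain ⟨x₁, hx₁⟩ := Ext.contravariant_sequence_exact₃ hS _ x (Ext.eq_zero_of_projective _)
      (n₀ := 0) (add_zero 1)
    obtain ⟨f, rfl⟩ := Ext.mk₀_bijective _ _ |>.2 x₁
    exact ⟨f.hom, hx₁⟩
  have hDker : D.ker = (LinearMap.range (LinearMap.lcomp O N i)).toAddSubgroup := by
    ext φ
    rw [AddMonoidHom.mem_ker, Submodule.mem_toAddSubgroup, LinearMap.mem_range]
    constructor
    · intro h
      obtain ⟨x₂, hx₂⟩ := Ext.contravariant_sequence_exact₁ hS _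
        (Ext.mk₀ (ModuleCat.ofHom φ : S.X₁ ⟶ ModuleCat.of O N)) (add_zero 1) h
      obtain ⟨g, rfl⟩ := Ext.mk₀_bijective _ _ |>.2 x₂
      rw [Ext.mk₀_comp_mk₀] at hx₂
      exact ⟨g.hom, congrArg ModuleCat.Hom.hom ((Ext.mk₀_bijective _ _).1 hx₂)⟩
    · rintro ⟨ψ, rfl⟩
      show hS.extClass.comp (Ext.mk₀ (S.f ≫ ModuleCat.ofHom ψ)) (add_zero 1) = 0
      rw [← Ext.mk₀_comp_mk₀]
      exact hS.extClass_comp_assoc _
  exact ⟨((QuotientAddGroup.quotientKerEquivOfSurjective D hD).symm.trans
    (QuotientAddGroup.quotientAddEquivOfEq hDker))⟩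

/-- `Ext¹` as a cokernel of composition along an acyclic middle term. -/
theorem addEquiv_ext_one_covariant {I A B C : Type u} [AddCommGroup I] [Module O I]
    [AddCommGroup A] [Module O A] [AddCommGroup B] [Module O B] [AddCommGroup C] [Module O C]
    (i : A →ₗ[O] B) (p : B →ₗ[O] C) (hi : Function.Injective i) (hp : Function.Surjective p)
    (hip : Function.Exact i p) [Subsingleton (Ext.{u} (ModuleCat.of O I) (ModuleCat.of O B) 1)] :
    Nonempty (Ext.{u} (ModuleCat.of O I) (ModuleCat.of O A) 1 ≃+
      ((I →ₗ[O] C) ⧸ LinearMap.range (LinearMap.compRight O (M := I) p))) := by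
  let S : ShortComplex (ModuleCat.{u} O) := ShortComplex.mk (ModuleCat.ofHom i) (ModuleCat.ofHom p) (by
    ext x; exact hip.apply_apply_eq_zero x)
  have hS : S.ShortExact :=
    { exact := (ShortComplex.ShortExact.moduleCat_exact_iff_function_exact _).2 hip
      mono_f := (ModuleCat.mono_iff_injective _).2 hi
      epi_g := (ModuleCat.epi_iff_surjective _).2 hp }
  let D : (I →ₗ[O] C) →+ Ext.{u} (ModuleCat.of O I) S.X₁ 1 :=
    { toFun := fun φ => (Ext.mk₀ (ModuleCat.ofHom φ : ModuleCat.of O I ⟶ S.X₃)).comp hS.extClass (zero_add 1)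
      map_zero' := by rw [ModuleCat.ofHom_zero, Ext.mk₀_zero, Ext.zero_comp]
      map_add' := fun φ ψ => by rw [ModuleCat.ofHom_add, Ext.mk₀_add, Ext.add_comp] }
  have hD : Function.Surjective D := fun x => by
    obtain ⟨x₃, hx₃⟩ := Ext.covariant_sequence_exact₁ _ hS x (Subsingleton.elim _ _) (n₀ := 0) (zero_add 1)
    obtain ⟨f, rfl⟩ := Ext.mk₀_bijective _ _ |>.2 x₃
    exact ⟨f.hom, hx₃⟩
  have hDker : D.ker = (LinearMap.range (LinearMap.compRight O (M := I) p)).toAddSubgroup := by
    ext φ
    rw [AddMonoidHom.mem_ker, Submodule.mem_toAddSubgroup, LinearMap.mem_range]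
    constructor
    · intro h
      obtain ⟨x₂, hx₂⟩ := Ext.covariant_sequence_exact₃ _ hS
        (Ext.mk₀ (ModuleCat.ofHom φ : ModuleCat.of O I ⟶ S.X₃)) (zero_add 1) h
      obtain ⟨g, rfl⟩ := Ext.mk₀_bijective _ _ |>.2 x₂
      rw [Ext.mk₀_comp_mk₀] at hx₂
      exact ⟨g.hom, congrArg ModuleCat.Hom.hom ((Ext.mk₀_bijective _ _).1 hx₂)⟩
    · rintro ⟨ψ, rfl⟩
      show (Ext.mk₀ (ModuleCat.ofHom ψ ≫ S.g)).comp hS.extClass (zero_add 1) = 0
      rw [← Ext.mk₀_comp_mk₀, Ext.comp_assoc_of_second_deg_zero, hS.comp_extClass, Ext.comp_zero]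
  exact ⟨((QuotientAddGroup.quotientKerEquivOfSurjective D hD).symm.trans
    (QuotientAddGroup.quotientAddEquivOfEq hDker))⟩

end Groth.Agent.TFDualLib
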