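import Groth.Agent.TFDualLib.Ext

/-!
# Duality into a canonical ideal in dimension one
-/

set_option autoImplicit false
set_option backward.isDefEq.respectTransparency false
set_option linter.style.haveILetI false
set_option maxSynthPendingDepth 3

universe u

open CategoryTheory Abelian

namespace Groth.Agent.TFDualLib

variable {O : Type u} [CommRing O]

/-- Maps extend when the quotient has no extensions. -/
theorem lcomp_surjective {A B C W : Type u} [AddCommGroup A] [Module O A] [AddCommGroup B] [Module O B]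
    [AddCommGroup C] [Module O C] [AddCommGroup W] [Module O W]
    (i : A →ₗ[O] B) (p : B →ₗ[O] C) (hi : Function.Injective i) (hp : Function.Surjective p)
    (hip : Function.Exact i p) [Subsingleton (Ext.{u} (ModuleCat.of O C) (ModuleCat.of O W) 1)] :
    Function.Surjective (LinearMap.lcomp O W i) := by
  let S : ShortComplex (ModuleCat.{u} O) := ShortComplex.mk (ModuleCat.ofHom i) (ModuleCat.ofHom p) (by
    ext x; exact hip.apply_apply_eq_zero x)
  have hS : S.ShortExact :=
    { exact := (ShortComplex.ShortExact.moduleCat_exact_iff_function_exact _).2 hip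
      mono_f := (ModuleCat.mono_iff_injective _).2 hi
      epi_g := (ModuleCat.epi_iff_surjective _).2 hp }
  intro φ
  have h : hS.extClass.comp (Ext.mk₀ (ModuleCat.ofHom φ : S.X₁ ⟶ ModuleCat.of O W)) (add_zero 1) = 0 :=
    Subsingleton.elim (α := Ext.{u} (ModuleCat.of O C) (ModuleCat.of O W) 1) _ _
  obtain ⟨x₂, hx₂⟩ := Ext.contravariant_sequence_exact₁ hS _ _ (add_zero 1) h
  obtain ⟨g, rfl⟩ := Ext.mk₀_bijective _ _ |>.2 x₂
  rw [Ext.mk₀_comp_mk₀] at hx₂
  exact ⟨g.hom, congrArg ModuleCat.Hom.hom ((Ext.mk₀_bijective _ _).1 hx₂)⟩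

/-- Dimension shifting in the first variable. -/
theorem shift_contravariant {A B C N : Type u} [AddCommGroup A] [Module O A] [AddCommGroup B] [Module O B]
    [Module.Projective O B] [AddCommGroup C] [Module O C] [AddCommGroup N] [Module O N]
    (i : A →ₗ[O] B) (p : B →ₗ[O] C) (hi : Function.Injective i) (hp : Function.Surjective p)
    (hip : Function.Exact i p) (n : ℕ) :
    Nonempty (Ext.{u} (ModuleCat.of O A) (ModuleCat.of O N) (n + 1) ≃+
      Ext.{u} (ModuleCat.of O C) (ModuleCat.of O N) (n + 2)) := by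
  let S : ShortComplex (ModuleCat.{u} O) := ShortComplex.mk (ModuleCat.ofHom i) (ModuleCat.ofHom p) (by
    ext x; exact hip.apply_apply_eq_zero x)
  have hS : S.ShortExact :=
    { exact := (ShortComplex.ShortExact.moduleCat_exact_iff_function_exact _).2 hip
      mono_f := (ModuleCat.mono_iff_injective _).2 hi
      epi_g := (ModuleCat.epi_iff_surjective _).2 hp }
  haveI : Projective S.X₂ := (IsProjective.iff_projective B).1 inferInstance
  let D : Ext.{u} S.X₁ (ModuleCat.of O N) (n + 1) →+ Ext.{u} S.X₃ (ModuleCat.of O N) (n + 2) :=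
    hS.extClass.precomp (ModuleCat.of O N) (show 1 + (n + 1) = n + 2 by omega)
  refine ⟨AddEquiv.ofBijective D ⟨(injective_iff_map_eq_zero D).2 fun x hx => ?_, fun x => ?_⟩⟩
  · obtain ⟨x₂, hx₂⟩ := Ext.contravariant_sequence_exact₁ hS _ x (show 1 + (n + 1) = n + 2 by omega) hx
    have hx0 : x₂ = 0 := Ext.eq_zero_of_projective x₂
    rw [← hx₂, hx0]
    simp
  · obtain ⟨x₁, hx₁⟩ := Ext.contravariant_sequence_exact₃ hS _ x (Ext.eq_zero_of_projective _)
      (n₀ := n + 1) (show 1 + (n + 1) = n + 2 by omega)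
    exact ⟨x₁, hx₁⟩

/-- Dimension shifting in the second variable. -/
theorem shift_covariant {X A B C : Type u} [AddCommGroup X] [Module O X] [AddCommGroup A] [Module O A]
    [AddCommGroup B] [Module O B] [AddCommGroup C] [Module O C]
    (i : A →ₗ[O] B) (p : B →ₗ[O] C) (hi : Function.Injective i) (hp : Function.Surjective p)
    (hip : Function.Exact i p) (n : ℕ)
    (h1 : Subsingleton (Ext.{u} (ModuleCat.of O X) (ModuleCat.of O B) (n + 1)))
    (h2 : Subsingleton (Ext.{u} (ModuleCat.of O X) (ModuleCat.of O B) (n + 2))) :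
    Nonempty (Ext.{u} (ModuleCat.of O X) (ModuleCat.of O C) (n + 1) ≃+
      Ext.{u} (ModuleCat.of O X) (ModuleCat.of O A) (n + 2)) := by
  let S : ShortComplex (ModuleCat.{u} O) := ShortComplex.mk (ModuleCat.ofHom i) (ModuleCat.ofHom p) (by
    ext x; exact hip.apply_apply_eq_zero x)
  have hS : S.ShortExact :=
    { exact := (ShortComplex.ShortExact.moduleCat_exact_iff_function_exact _).2 hip
      mono_f := (ModuleCat.mono_iff_injective _).2 hi
      epi_g := (ModuleCat.epi_iff_surjective _).2 hp }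
  let D : Ext.{u} (ModuleCat.of O X) S.X₃ (n + 1) →+ Ext.{u} (ModuleCat.of O X) S.X₁ (n + 2) :=
    hS.extClass.postcomp (ModuleCat.of O X) rfl
  refine ⟨AddEquiv.ofBijective D ⟨(injective_iff_map_eq_zero D).2 fun x hx => ?_, fun x => ?_⟩⟩
  · obtain ⟨x₂, hx₂⟩ := Ext.covariant_sequence_exact₃ _ hS x (rfl : n + 1 + 1 = n + 2) hx
    have hx0 : x₂ = 0 := h1.elim x₂ 0
    rw [← hx₂, hx0]
    simp
  · obtain ⟨x₃, hx₃⟩ := Ext.covariant_sequence_exact₁ _ hS x (h2.elim _ _) (n₀ := n + 1) rfl
    exact ⟨x₃, hx₃⟩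

theorem exact_lcomp {A B C : Type u} [AddCommGroup A] [Module O A] [AddCommGroup B] [Module O B]
    [AddCommGroup C] [Module O C] (W : Type u) [AddCommGroup W] [Module O W]
    (i : A →ₗ[O] B) (p : B →ₗ[O] C) (hp : Function.Surjective p) (hip : Function.Exact i p) :
    Function.Exact (LinearMap.lcomp O W p) (LinearMap.lcomp O W i) ∧
      Function.Injective (LinearMap.lcomp O W p) := by
  refine ⟨fun φ => ⟨fun h => ?_, ?_⟩, fun a b h => LinearMap.ext fun z => ?_⟩
  · have hk : LinearMap.ker p ≤ LinearMap.ker φ := fun z hz => by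
      obtain ⟨a, rfl⟩ := (hip z).1 hz
      exact LinearMap.congr_fun h a
    refine ⟨((LinearMap.ker p).liftQ φ hk) ∘ₗ (p.quotKerEquivOfSurjective hp).symm.toLinearMap, ?_⟩
    refine LinearMap.ext fun z => ?_
    show (LinearMap.ker p).liftQ φ hk ((p.quotKerEquivOfSurjective hp).symm (p z)) = φ z
    rw [show (p.quotKerEquivOfSurjective hp).symm (p z) = Submodule.Quotient.mk z from
      (LinearEquiv.symm_apply_eq _).2 rfl]
    rfl
  · rintro ⟨ψ, rfl⟩
    exact LinearMap.ext fun a => by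
      show ψ (p (i a)) = 0
      rw [hip.apply_apply_eq_zero a, map_zero]
  · obtain ⟨y, rfl⟩ := hp z
    exact LinearMap.congr_fun h y

/-- Transport of a cokernel to the duals. -/
theorem addEquiv_flip' {K P M I W : Type u} [AddCommGroup K] [Module O K] [AddCommGroup P] [Module O P]
    [AddCommGroup M] [Module O M] [AddCommGroup I] [Module O I] [AddCommGroup W] [Module O W]
    (i : K →ₗ[O] P) (μ : M ≃ₗ[O] (I →ₗ[O] W)) :
    Nonempty (((K →ₗ[O] M) ⧸ LinearMap.range (LinearMap.lcomp O M i)) ≃+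
      ((I →ₗ[O] (K →ₗ[O] W)) ⧸ LinearMap.range (LinearMap.compRight O (M := I)
        (LinearMap.lcomp O W i)))) := by
  let Φ : (K →ₗ[O] M) ≃ₗ[O] (I →ₗ[O] (K →ₗ[O] W)) :=
    (LinearEquiv.congrRight μ).trans LinearMap.lflip
  let Φ' : (P →ₗ[O] M) ≃ₗ[O] (I →ₗ[O] (P →ₗ[O] W)) :=
    (LinearEquiv.congrRight μ).trans LinearMap.lflip
  refine ⟨(Submodule.Quotient.equiv _ _ Φ ?_).toAddEquiv⟩
  ext φ
  simp only [Submodule.mem_map, LinearMap.mem_range]
  constructor
  · rintro ⟨_, ⟨ψ, rfl⟩, rfl⟩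
    exact ⟨Φ' ψ, rfl⟩
  · rintro ⟨χ, rfl⟩
    refine ⟨_, ⟨Φ'.symm χ, rfl⟩, ?_⟩
    obtain ⟨ψ, rfl⟩ := Φ'.surjective χ
    rw [LinearEquiv.symm_apply_apply]
    rfl

section

variable [IsDomain O] [IsNoetherianRing O] [IsLocalRing O]
variable {K : Type u} [Field K] [Algebra O K] [IsFractionRing O K] {W : Submodule O K}
variable (hW : HasInjectiveDimensionLT (ModuleCat.of O W) 2)

open IsLocalRing
open scoped Pointwise

omit [IsLocalRing O] in
include hW in
theorem ext_tf (M : Type u) [AddCommGroup M] [Module O M] [Module.Finite O M] [NoZeroSMulDivisors O M]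
    (i : ℕ) (hi : 1 ≤ i) : Subsingleton (Ext.{u} (ModuleCat.of O M) (ModuleCat.of O W) i) := by
  obtain ⟨n, f, hf⟩ := exists_injective_pi (O := O) K M
  exact subsingleton_ext hW f hf i hi

omit [IsLocalRing O] [IsDomain O] [IsNoetherianRing O] in
theorem noZeroSMulDivisors_sub [IsDomain O] (B : Submodule O K) : NoZeroSMulDivisors O B := ⟨fun {c} {x} h => by
  have h' : c • (x : K) = 0 := congrArg Subtype.val h
  rcases smul_eq_zero.1 h' with h1 | h1
  · exact Or.inl h1
  · exact Or.inr (Subtype.ext h1)⟩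

/-- A torsion element killed by the maximal ideal outside a submodule. -/
theorem exists_socle (hdim : ringKrullDim O = 1) {A B : Submodule O K} (hAB : A ≤ B) (hne : ¬ B ≤ A)
    (hfg : B.FG) {c : O} (hc : c ≠ 0) (hcB : ∀ b ∈ B, c • b ∈ A) :
    ∃ z ∈ B, z ∉ A ∧ ∀ m ∈ maximalIdeal O, m • z ∈ A := by
  let Q := ↥B ⧸ A.comap B.subtype
  haveI : Module.Finite O B := Module.Finite.iff_fg.2 hfg
  haveI : Nontrivial Q := Submodule.Quotient.nontrivial_iff.2 fun h => hne fun b hb => by
    have : (⟨b, hb⟩ : B) ∈ A.comap B.subtype := h ▸ Submodule.mem_top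
    exact this
  obtain ⟨p, hp⟩ := associatedPrimes.nonempty O Q
  obtain ⟨hpp, f, hf⟩ := (isAssociatedPrime_iff_exists_injective_linearMap p Q).1 hp
  haveI : Ring.KrullDimLE 1 O := Ring.krullDimLE_iff.2 (by rw [hdim]; exact le_rfl)
  obtain ⟨⟨z, hz⟩, hzf⟩ := Submodule.Quotient.mk_surjective _ (f (Ideal.Quotient.mk p 1))
  have hkey : ∀ m : O, m • z ∈ A ↔ m ∈ p := fun m => by
    rw [← Ideal.Quotient.eq_zero_iff_mem, ← map_eq_zero_iff f hf,
      show Ideal.Quotient.mk p m = m • Ideal.Quotient.mk p 1 by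
        rw [Algebra.smul_def, Ideal.Quotient.algebraMap_eq, map_one, mul_one],
      map_smul, ← hzf, ← Submodule.Quotient.mk_smul, Submodule.Quotient.mk_eq_zero]
    rfl
  have hp0 : p ≠ ⊥ := fun h => hc (by
    have := (hkey c).1 (hcB z hz)
    rwa [h, Ideal.mem_bot] at this)
  refine ⟨z, hz, fun h => hpp.ne_top ((Ideal.eq_top_iff_one p).2 ((hkey 1).1 (by rwa [one_smul]))),
    fun m hm => (hkey m).2 ?_⟩
  rwa [IsLocalRing.eq_maximalIdeal (hpp.isMaximal_of_ne_bot hp0)] at *

/-- The sequence `A → A + O z → O/m`. -/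
theorem exists_socle_seq {A : Submodule O K} {z : K} (hz : z ∉ A) (hm : ∀ m ∈ maximalIdeal O, m • z ∈ A) :
    ∃ p : ↥(A ⊔ Submodule.span O {z}) →ₗ[O] O ⧸ maximalIdeal O, Function.Surjective p ∧
      Function.Exact (Submodule.inclusion (le_sup_left : A ≤ A ⊔ Submodule.span O {z})) p := by
  set B := A ⊔ Submodule.span O {z}
  have hzB : z ∈ B := Submodule.mem_sup_right (Submodule.mem_span_singleton_self z)
  let A' : Submodule O B := LinearMap.range (Submodule.inclusion (le_sup_left : A ≤ B))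
  let g : O →ₗ[O] (↥B ⧸ A') := LinearMap.toSpanSingleton O _ (Submodule.Quotient.mk ⟨z, hzB⟩)
  have hg : Function.Surjective g := fun q => by
    obtain ⟨⟨b, hb⟩, rfl⟩ := Submodule.Quotient.mk_surjective _ q
    obtain ⟨a, ha, w, hw, rfl⟩ := Submodule.mem_sup.1 hb
    obtain ⟨o, rfl⟩ := Submodule.mem_span_singleton.1 hw
    refine ⟨o, ?_⟩
    show o • Submodule.Quotient.mk (p := A') (⟨z, hzB⟩ : B) = _
    rw [← Submodule.Quotient.mk_smul, Submodule.Quotient.eq]
    exact ⟨⟨-a, A.neg_mem ha⟩, Subtype.ext (by show -a = o • z - (a + o • z); abel)⟩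
  have hker : LinearMap.ker g = maximalIdeal O := by
    ext o
    rw [LinearMap.mem_ker, show g o = Submodule.Quotient.mk (o • (⟨z, hzB⟩ : B)) from rfl,
      Submodule.Quotient.mk_eq_zero]
    constructor
    · rintro ⟨a, ha⟩
      by_contra h
      have hu : IsUnit o := not_not.1 fun h' => h (mem_maximalIdeal _ |>.2 h')
      obtain ⟨v, rfl⟩ := hu
      have ha' : (a : K) = (v : O) • z := congrArg Subtype.val ha
      apply hz
      have := A.smul_mem (↑v⁻¹ : O) (ha' ▸ a.2)
      rwa [smul_smul, Units.inv_mul, one_smul] at this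
    · exact fun ho => ⟨⟨o • z, hm o ho⟩, rfl⟩
  let e := (g.quotKerEquivOfSurjective hg).symm.trans (Submodule.quotEquivOfEq _ _ hker)
  refine ⟨e.toLinearMap ∘ₗ A'.mkQ, e.surjective.comp (Submodule.mkQ_surjective _), fun b => ?_⟩
  show e (A'.mkQ b) = 0 ↔ _
  rw [map_eq_zero_iff e e.injective, Submodule.mkQ_apply, Submodule.Quotient.mk_eq_zero]
  exact Iff.rfl

include hW in
/-- Endomorphisms of a canonical ideal are scalars. -/
theorem exists_smul_of_end (hdim : ringKrullDim O = 1) (hW0 : W ≠ ⊥) (hWfg : W.FG) (φ : W →ₗ[O] W) :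
    ∃ o : O, ∀ w, φ w = o • w := by
  classical
  have halg : Function.Injective (algebraMap O K) := IsFractionRing.injective O K
  have hsm : ∀ (c : O) (z : K), c • z = algebraMap O K c * z := fun c z => Algebra.smul_def c z
  obtain ⟨w₀, hw₀, hw₀0⟩ := Submodule.exists_mem_ne_zero_of_ne_bot hW0
  -- multiplication by a scalar of `K`
  have hmul : ∀ w : W, (φ w : K) = (φ ⟨w₀, hw₀⟩ : K) / w₀ * w := by
    intro w
    obtain ⟨a, b, hb, hab⟩ := IsFractionRing.div_surjective (A := O) ((w : K) / w₀)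
    have hb' : algebraMap O K b ≠ 0 := IsFractionRing.to_map_ne_zero_of_mem_nonZeroDivisors hb
    have hw : (w : K) = algebraMap O K a / algebraMap O K b * w₀ := by rw [hab, div_mul_cancel₀ _ hw₀0]
    have h1 : b • w = a • (⟨w₀, hw₀⟩ : W) := Subtype.ext (by
      show b • (w : K) = a • w₀
      rw [hsm, hsm, hw]; field_simp)
    have h2 := congrArg (fun z => ((φ z : W) : K)) h1
    simp only [map_smul, Submodule.coe_smul, hsm] at h2
    apply mul_left_cancel₀ hb'
    rw [h2, hw]
    field_simp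
  set a := (φ ⟨w₀, hw₀⟩ : K) / w₀
  by_cases ha : a ∈ (1 : Submodule O K)
  · obtain ⟨o, ho⟩ := Submodule.mem_one.1 ha
    exact ⟨o, fun w => Subtype.ext (by rw [hmul w, ← ho]; exact (hsm o w).symm)⟩
  exfalso
  -- a submodule of multipliers bigger than `O`
  set B : Submodule O K := (1 : Submodule O K) ⊔ Submodule.span O {a}
  obtain ⟨a₁, b₁, hb₁, hab₁⟩ := IsFractionRing.div_surjective (A := O) a
  have hb₁' : algebraMap O K b₁ ≠ 0 := IsFractionRing.to_map_ne_zero_of_mem_nonZeroDivisors hb₁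
  have hcB : ∀ x ∈ B, b₁ • x ∈ (1 : Submodule O K) := by
    intro x hx
    obtain ⟨u, hu, v, hv, rfl⟩ := Submodule.mem_sup.1 hx
    obtain ⟨o, rfl⟩ := Submodule.mem_span_singleton.1 hv
    rw [smul_add]
    refine add_mem (Submodule.smul_mem _ _ hu) (Submodule.mem_one.2 ⟨o * a₁, ?_⟩)
    rw [hsm, hsm, ← hab₁, map_mul]
    field_simp
  obtain ⟨y, hyB, hy1, hym⟩ := exists_socle hdim (le_sup_left : (1 : Submodule O K) ≤ B)
    (fun h => ha (h (Submodule.mem_sup_right (Submodule.mem_span_singleton_self a))))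
    (Submodule.FG.sup ⟨{1}, by simp [Submodule.one_eq_span]⟩ ⟨{a}, by simp⟩) (nonZeroDivisors.ne_zero hb₁) hcB
  have hBW : ∀ x ∈ B, ∀ w : W, x * (w : K) ∈ W := by
    intro x hx w
    obtain ⟨u, hu, v, hv, rfl⟩ := Submodule.mem_sup.1 hx
    obtain ⟨o, rfl⟩ := Submodule.mem_span_singleton.1 hv
    obtain ⟨o', rfl⟩ := Submodule.mem_one.1 hu
    rw [add_mul, ← hsm, smul_mul_assoc, ← hmul w]
    exact add_mem (W.smul_mem o' w.2) (W.smul_mem o (φ w).2)
  -- `Ext¹(k, W) = 0`
  have hExt : Subsingleton (Ext.{u} (ModuleCat.of O (O ⧸ maximalIdeal O)) (ModuleCat.of O W) 1) := by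
    set N : Submodule O K := (1 : Submodule O K) ⊔ Submodule.span O {y}
    have hNB : N ≤ B := sup_le le_sup_left ((Submodule.span_singleton_le_iff_mem _ _).2 hyB)
    obtain ⟨p, hp, hex⟩ := exists_socle_seq hy1 hym
    let ι := Submodule.inclusion (le_sup_left : (1 : Submodule O K) ≤ N)
    let S : ShortComplex (ModuleCat.{u} O) := ShortComplex.mk (ModuleCat.ofHom ι) (ModuleCat.ofHom p) (by
      ext x; exact hex.apply_apply_eq_zero x)
    have hS : S.ShortExact :=
      { exact := (ShortComplex.ShortExact.moduleCat_exact_iff_function_exact _).2 hex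
        mono_f := (ModuleCat.mono_iff_injective _).2 (Submodule.inclusion_injective (le_sup_left : (1 : Submodule O K) ≤ N))
        epi_g := (ModuleCat.epi_iff_surjective _).2 hp }
    haveI : Module.Finite O N :=
      Module.Finite.iff_fg.2 (Submodule.FG.sup ⟨{1}, by simp [Submodule.one_eq_span]⟩ ⟨{y}, by simp⟩)
    haveI := noZeroSMulDivisors_sub N
    haveI := ext_tf hW N 1 le_rfl
    refine subsingleton_of_forall_eq 0 fun x => ?_
    obtain ⟨x₁, hx₁⟩ := Ext.contravariant_sequence_exact₃ hS _ x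
      (Subsingleton.elim (α := Ext.{u} (ModuleCat.of O N) (ModuleCat.of O W) 1) _ _) (n₀ := 0) (add_zero 1)
    obtain ⟨f, rfl⟩ := Ext.mk₀_bijective _ _ |>.2 x₁
    -- every map extends by multiplication
    let one' : (1 : Submodule O K) := ⟨1, Submodule.mem_one.2 ⟨1, map_one _⟩⟩
    let g : N →ₗ[O] W :=
      { toFun := fun x => ⟨(x : K) * (f.hom one' : W), hBW x (hNB x.2) _⟩
        map_add' := fun x y => Subtype.ext (by simp [add_mul])
        map_smul' := fun c x => Subtype.ext (by simp) }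
    have hfg : f = ModuleCat.ofHom ι ≫ ModuleCat.ofHom g := by
      refine ModuleCat.hom_ext (LinearMap.ext fun x => Subtype.ext ?_)
      obtain ⟨o, ho⟩ := Submodule.mem_one.1 x.2
      have hx : x = o • one' := Subtype.ext (by
        show (x : K) = o • (1 : K)
        rw [hsm, mul_one, ho])
      show ((f.hom x : W) : K) = (x : K) * (f.hom one' : W)
      conv_lhs => rw [hx, map_smul, Submodule.coe_smul, hsm, ho]
    rw [← hx₁, hfg, ← Ext.mk₀_comp_mk₀]
    exact hS.extClass_comp_assoc _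
  -- but `W` has a non-trivial extension
  obtain ⟨c, hcm, hc0⟩ := Submodule.exists_mem_ne_zero_of_ne_bot
    (show maximalIdeal O ≠ ⊥ from fun h => by
      have := IsLocalRing.isField_iff_maximalIdeal_eq.2 h
      rw [ringKrullDim_eq_zero_of_isField this] at hdim
      exact zero_ne_one hdim)
  have hcW : ¬ W ≤ c • W := fun h => hW0 (Submodule.eq_bot_of_le_smul_of_le_jacobson_bot
    (maximalIdeal O) W hWfg (h.trans fun x hx => by
      obtain ⟨w, hw, rfl⟩ := Submodule.mem_smul_pointwise_iff_exists _ _ _ |>.1 hx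
      exact Submodule.smul_mem_smul hcm hw) (maximalIdeal_le_jacobson ⊥))
  obtain ⟨z, hzW, hzc, hzm⟩ := exists_socle hdim (A := c • W) (B := W)
    (fun x hx => by
      obtain ⟨w, hw, rfl⟩ := Submodule.mem_smul_pointwise_iff_exists _ _ _ |>.1 hx
      exact W.smul_mem c hw) hcW hWfg hc0
    (fun b hb => Submodule.smul_mem_pointwise_smul b c W hb)
  have hc' : algebraMap O K c ≠ 0 := fun h => hc0 (halg (by rw [h, map_zero]))
  have hx' : z / algebraMap O K c ∉ W := fun h => hzc (by
    have := Submodule.smul_mem_pointwise_smul _ c W h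
    rwa [hsm, mul_div_cancel₀ _ hc'] at this)
  have hm' : ∀ m ∈ maximalIdeal O, m • (z / algebraMap O K c) ∈ W := fun m hm => by
    obtain ⟨w, hw, hwz⟩ := Submodule.mem_smul_pointwise_iff_exists _ _ _ |>.1 (hzm m hm)
    convert hw using 1
    rw [hsm, mul_div_assoc', ← hsm, ← hwz, hsm, mul_div_cancel_left₀ _ hc']
  obtain ⟨p, hp, hex⟩ := exists_socle_seq hx' hm'
  obtain ⟨ρ, hρ⟩ := lcomp_surjective (W := ↥W) _ p (Submodule.inclusion_injective _) hp hex LinearMap.id
  set x' : ↥(W ⊔ Submodule.span O {z / algebraMap O K c}) :=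
    ⟨_, Submodule.mem_sup_right (Submodule.mem_span_singleton_self _)⟩
  have h1 : c • ρ x' = (⟨c • (z / algebraMap O K c), hm' c hcm⟩ : W) := by
    rw [← map_smul]
    exact LinearMap.congr_fun hρ ⟨c • (z / algebraMap O K c), hm' c hcm⟩
  have h2 := congrArg Subtype.val h1
  simp only [Submodule.coe_smul, hsm] at h2
  exact hx' (mul_left_cancel₀ hc' h2 ▸ (ρ x').2)

end

section

variable [IsDomain O] [IsNoetherianRing O] {W : Type u} [AddCommGroup W] [Module O W] [Module.Finite O W]
  [NoZeroSMulDivisors O W] [Nontrivial W]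

omit [IsNoetherianRing O] [Module.Finite O W] [Nontrivial W] in
theorem noZeroSMulDivisors_hom (X : Type u) [AddCommGroup X] [Module O X] :
    NoZeroSMulDivisors O (X →ₗ[O] W) := ⟨fun {c} {φ} h => by
  rcases eq_or_ne c 0 with hc | hc
  · exact Or.inl hc
  · exact Or.inr (LinearMap.ext fun x => (smul_eq_zero.1 (LinearMap.congr_fun h x)).resolve_left hc)⟩

omit [IsDomain O] [NoZeroSMulDivisors O W] [Nontrivial W] in
theorem finite_hom (X : Type u) [AddCommGroup X] [Module O X] [Module.Finite O X] :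
    Module.Finite O (X →ₗ[O] W) := by
  obtain ⟨s, π, hπ⟩ := Module.Finite.exists_fin' O X
  haveI : Module.Finite O ((Fin s → O) →ₗ[O] W) :=
    Module.Finite.equiv ((Pi.basisFun O (Fin s)).constr O (M' := W))
  haveI : IsNoetherian O ((Fin s → O) →ₗ[O] W) := isNoetherian_of_isNoetherianRing_of_finite O _
  exact Module.Finite.of_injective (LinearMap.lcomp O W π) fun a b h => LinearMap.ext fun z => by
    obtain ⟨y, rfl⟩ := hπ z
    exact LinearMap.congr_fun h y

/-- The biduality map. -/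
def biEval (X : Type u) [AddCommGroup X] [Module O X] : X →ₗ[O] ((X →ₗ[O] W) →ₗ[O] W) :=
  (LinearMap.id : (X →ₗ[O] W) →ₗ[O] (X →ₗ[O] W)).flip

omit [IsNoetherianRing O] [Module.Finite O W] in
theorem biEval_free (hEnd : ∀ φ : W →ₗ[O] W, ∃ o : O, ∀ w, φ w = o • w) (s : ℕ) :
    Function.Bijective (biEval (O := O) (W := W) (Fin s → O)) := by
  constructor
  · refine fun x y h => funext fun l => ?_
    obtain ⟨w, hw⟩ := exists_ne (0 : W)
    have := LinearMap.congr_fun h ((LinearMap.proj l : (Fin s → O) →ₗ[O] O).smulRight w)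
    exact smul_left_injective O hw this
  · intro Φ
    choose o ho using fun l : Fin s => hEnd (Φ ∘ₗ LinearMap.smulRightₗ (LinearMap.proj l : (Fin s → O) →ₗ[O] O))
    refine ⟨o, LinearMap.ext fun ψ => ?_⟩
    have hψ : ψ = ∑ l, (LinearMap.proj l : (Fin s → O) →ₗ[O] O).smulRight (ψ (Pi.single l 1)) := by
      refine LinearMap.ext fun x => ?_
      conv_lhs => rw [pi_eq_sum_univ' x]
      simp [LinearMap.sum_apply]
    show ψ o = Φ ψ
    have e : ∀ l, Φ ((LinearMap.proj l : (Fin s → O) →ₗ[O] O).smulRight (ψ (Pi.single l 1))) =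
        o l • ψ (Pi.single l 1) := fun l => ho l _
    conv_rhs => rw [hψ, map_sum]
    simp only [e]
    conv_lhs => rw [pi_eq_sum_univ' o]
    simp [map_sum, map_smul]

/-- The hypotheses on a dualising module. -/
structure Dualising (O : Type u) [CommRing O] (W : Type u) [AddCommGroup W] [Module O W] : Prop where
  ext_zero : ∀ (M : Type u) [AddCommGroup M] [Module O M] [Module.Finite O M] [NoZeroSMulDivisors O M] (i : ℕ),
    1 ≤ i → Subsingleton (Ext.{u} (ModuleCat.of O M) (ModuleCat.of O W) i)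
  end_scalar : ∀ φ : W →ₗ[O] W, ∃ o : O, ∀ w, φ w = o • w

omit [Module.Finite O W] [NoZeroSMulDivisors O W] [Nontrivial W] [IsNoetherianRing O] in
theorem nzsmd_submodule {X : Type u} [AddCommGroup X] [Module O X] [NoZeroSMulDivisors O X]
    (B : Submodule O X) : NoZeroSMulDivisors O B := ⟨fun {c} {x} h => by
  have h' : c • (x : X) = 0 := congrArg Subtype.val h
  rcases smul_eq_zero.1 h' with h1 | h1
  · exact Or.inl h1
  · exact Or.inr (Subtype.ext h1)⟩

theorem restrict (h : Dualising O W) {M : Type u} [AddCommGroup M] [Module O M] [Module.Finite O M]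
    [NoZeroSMulDivisors O M] {s : ℕ} (π : (Fin s → O) →ₗ[O] M) (hπ : Function.Surjective π) :
    Function.Surjective (LinearMap.lcomp O W (LinearMap.ker π).subtype) := by
  haveI := h.ext_zero M 1 le_rfl
  exact lcomp_surjective _ π Subtype.val_injective hπ (LinearMap.exact_subtype_ker_map π)

theorem biEval_bijective (h : Dualising O W) (M : Type u) [AddCommGroup M] [Module O M] [Module.Finite O M]
    [NoZeroSMulDivisors O M] : Function.Bijective (biEval (O := O) (W := W) M) := by
  obtain ⟨w, hw⟩ := exists_ne (0 : W)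
  obtain ⟨t, e, he⟩ := exists_injective_pi (O := O) (FractionRing O) M
  refine ⟨fun x y hxy => he (funext fun l => ?_), ?_⟩
  · have := LinearMap.congr_fun hxy (((LinearMap.proj l : (Fin t → O) →ₗ[O] O).comp e).smulRight w)
    exact smul_left_injective O hw this
  obtain ⟨s, π, hπ⟩ := Module.Finite.exists_fin' O M
  obtain ⟨hex, hinj⟩ := exact_lcomp W _ π hπ (LinearMap.exact_subtype_ker_map π)
  haveI : Module.Finite O (LinearMap.ker π) := Module.IsNoetherian.finite O _
  haveI := finite_hom (W := W) (O := O) (LinearMap.ker π)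
  haveI := noZeroSMulDivisors_hom (W := W) (O := O) (LinearMap.ker π)
  haveI := h.ext_zero (LinearMap.ker π →ₗ[O] W) 1 le_rfl
  have hsurj := lcomp_surjective (W := W) _ _ hinj (restrict h π hπ) hex
  intro Φ
  obtain ⟨Ψ, hΨ⟩ := hsurj Φ
  obtain ⟨f, rfl⟩ := (biEval_free h.end_scalar s).2 Ψ
  exact ⟨π f, hΨ⟩

theorem ext_dual_free (h : Dualising O W) (s : ℕ) : ∀ (n : ℕ) (X : Type u) [AddCommGroup X] [Module O X]
    [Module.Finite O X] [NoZeroSMulDivisors O X],
    Subsingleton (Ext.{u} (ModuleCat.of O X) (ModuleCat.of O ((Fin s → O) →ₗ[O] W)) (n + 1)) := by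
  intro n
  induction n with
  | zero =>
    intro X _ _ _ _
    obtain ⟨t, π, hπ⟩ := Module.Finite.exists_fin' O X
    obtain ⟨E⟩ := addEquiv_ext_one_contravariant (N := (Fin s → O) →ₗ[O] W) (LinearMap.ker π).subtype π
      Subtype.val_injective hπ (LinearMap.exact_subtype_ker_map π)
    have hr : LinearMap.range (LinearMap.lcomp O ((Fin s → O) →ₗ[O] W) (LinearMap.ker π).subtype) = ⊤ := by
      refine LinearMap.range_eq_top.2 fun φ => ?_
      obtain ⟨χ, hχ⟩ := Module.projective_lifting_property (LinearMap.lcomp O W (LinearMap.ker π).subtype)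
        φ.flip (restrict h π hπ)
      refine ⟨χ.flip, LinearMap.ext fun z => LinearMap.ext fun v => ?_⟩
      exact LinearMap.congr_fun (LinearMap.congr_fun hχ v) z
    haveI := Submodule.Quotient.subsingleton_iff.2 hr
    exact E.injective.subsingleton
  | succ n ih =>
    intro X _ _ _ _
    obtain ⟨t, π, hπ⟩ := Module.Finite.exists_fin' O X
    haveI : Module.Finite O (LinearMap.ker π) := Module.IsNoetherian.finite O _
    haveI := nzsmd_submodule (LinearMap.ker π)
    obtain ⟨E⟩ := shift_contravariant (N := (Fin s → O) →ₗ[O] W) (LinearMap.ker π).subtype π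
      Subtype.val_injective hπ (LinearMap.exact_subtype_ker_map π) n
    haveI := ih (LinearMap.ker π)
    exact E.symm.injective.subsingleton

/-- Duality on higher extensions. -/
theorem ext_dual (h : Dualising O W) (N : Type u) [AddCommGroup N] [Module O N] [Module.Finite O N]
    [NoZeroSMulDivisors O N] : ∀ (n : ℕ) (M : Type u) [AddCommGroup M] [Module O M] [Module.Finite O M]
    [NoZeroSMulDivisors O M],
    Nonempty (Ext.{u} (ModuleCat.of O M) (ModuleCat.of O N) (n + 1) ≃+
      Ext.{u} (ModuleCat.of O (N →ₗ[O] W)) (ModuleCat.of O (M →ₗ[O] W)) (n + 1)) := by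
  haveI := finite_hom (W := W) (O := O) N
  haveI := noZeroSMulDivisors_hom (W := W) (O := O) N
  intro n
  induction n with
  | zero =>
    intro M _ _ _ _
    obtain ⟨s, π, hπ⟩ := Module.Finite.exists_fin' O M
    obtain ⟨hex, hinj⟩ := exact_lcomp W _ π hπ (LinearMap.exact_subtype_ker_map π)
    obtain ⟨E₁⟩ := addEquiv_ext_one_contravariant (N := N) (LinearMap.ker π).subtype π
      Subtype.val_injective hπ (LinearMap.exact_subtype_ker_map π)
    obtain ⟨E₂⟩ := addEquiv_flip' (LinearMap.ker π).subtype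
      (LinearEquiv.ofBijective _ (biEval_bijective h N))
    haveI := ext_dual_free h s 0 (N →ₗ[O] W)
    obtain ⟨E₃⟩ := addEquiv_ext_one_covariant (I := (N →ₗ[O] W)) _ _ hinj (restrict h π hπ) hex
    exact ⟨(E₁.trans E₂).trans E₃.symm⟩
  | succ n ih =>
    intro M _ _ _ _
    obtain ⟨s, π, hπ⟩ := Module.Finite.exists_fin' O M
    haveI : Module.Finite O (LinearMap.ker π) := Module.IsNoetherian.finite O _
    haveI := nzsmd_submodule (LinearMap.ker π)
    obtain ⟨hex, hinj⟩ := exact_lcomp W _ π hπ (LinearMap.exact_subtype_ker_map π)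
    obtain ⟨E₁⟩ := shift_contravariant (N := N) (LinearMap.ker π).subtype π
      Subtype.val_injective hπ (LinearMap.exact_subtype_ker_map π) n
    obtain ⟨E₂⟩ := ih (LinearMap.ker π)
    obtain ⟨E₃⟩ := shift_covariant (X := (N →ₗ[O] W)) _ _ hinj (restrict h π hπ) hex n
      (ext_dual_free h s n _) (ext_dual_free h s (n + 1) _)
    exact ⟨(E₁.symm.trans E₂).trans E₃⟩

/-- Duality on self-extensions. -/
theorem ext_self_dual (h : Dualising O W) (M : Type u) [AddCommGroup M] [Module O M] [Module.Finite O M]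
    [NoZeroSMulDivisors O M] (i : ℕ) :
    Nonempty (Ext.{u} (ModuleCat.of O M) (ModuleCat.of O M) i ≃+
      Ext.{u} (ModuleCat.of O (M →ₗ[O] W)) (ModuleCat.of O (M →ₗ[O] W)) i) := by
  cases i with
  | succ n => exact ext_dual h M n M
  | zero =>
    let e : (M →ₗ[O] M) ≃ₗ[O] ((M →ₗ[O] W) →ₗ[O] (M →ₗ[O] W)) :=
      (LinearEquiv.congrRight (LinearEquiv.ofBijective _ (biEval_bijective h M))).trans LinearMap.lflip
    let h₁ : Ext.{u} (ModuleCat.of O M) (ModuleCat.of O M) 0 ≃+ (M →ₗ[O] M) :=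
      Ext.addEquiv₀.trans (ModuleCat.homAddEquiv (M := ModuleCat.of O M) (N := ModuleCat.of O M))
    let h₂ : Ext.{u} (ModuleCat.of O (M →ₗ[O] W)) (ModuleCat.of O (M →ₗ[O] W)) 0 ≃+
        ((M →ₗ[O] W) →ₗ[O] (M →ₗ[O] W)) :=
      Ext.addEquiv₀.trans (ModuleCat.homAddEquiv (M := ModuleCat.of O (M →ₗ[O] W))
        (N := ModuleCat.of O (M →ₗ[O] W)))
    exact ⟨(h₁.trans e.toAddEquiv).trans h₂.symm⟩

end

end Groth.Agent.TFDualLib
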