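import Groth.Agent.TFDualLib.Ext

/-!
# Self-extensions of overrings in dimension one
-/

set_option autoImplicit false
set_option backward.isDefEq.respectTransparency false
set_option linter.style.haveILetI false
set_option maxSynthPendingDepth 3

universe u

open CategoryTheory Abelian

namespace Groth.Agent.TFDualLib

variable {O : Type u} [CommRing O]

section

variable [IsNoetherianRing O] (hO : HasInjectiveDimensionLT (ModuleCat.of O O) 2)

include hO

theorem restrict_surjective {P M K : Type u} [AddCommGroup P] [Module O P] [Module.Projective O P]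
    [AddCommGroup M] [Module O M] [AddCommGroup K] [Module O K]
    (i : K →ₗ[O] P) (p : P →ₗ[O] M) (hi : Function.Injective i) (hp : Function.Surjective p)
    (hip : Function.Exact i p) {Q : Type u} [AddCommGroup Q] [Module O Q] [Module.Projective O Q]
    (e : M →ₗ[O] Q) (he : Function.Injective e) :
    Function.Surjective (LinearMap.lcomp O O i) := by
  obtain ⟨E⟩ := addEquiv_ext_one_contravariant (N := O) i p hi hp hip
  haveI := subsingleton_ext hO e he 1 le_rfl
  haveI := E.symm.injective.subsingleton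
  intro φ
  exact (Submodule.Quotient.mk_eq_zero _).1 (Subsingleton.elim (Submodule.Quotient.mk φ) (0 : (K →ₗ[O] O) ⧸ LinearMap.range (LinearMap.lcomp O O i)))

/-- Torsion-free modules are reflexive. -/
theorem eval_bijective {M : Type u} [AddCommGroup M] [Module O M] [Module.Finite O M]
    {t : ℕ} (e : M →ₗ[O] (Fin t → O)) (he : Function.Injective e) :
    Function.Bijective (Module.Dual.eval O M) := by
  refine ⟨fun x y h => he (funext fun l => ?_), ?_⟩
  · exact LinearMap.congr_fun h ((LinearMap.proj l).comp e)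
  obtain ⟨s, π, hπ⟩ := Module.Finite.exists_fin' O M
  let i := (LinearMap.ker π).subtype
  have hip : Function.Exact i π := LinearMap.exact_subtype_ker_map π
  have hres : Function.Surjective i.dualMap :=
    restrict_surjective hO i π Subtype.val_injective hπ hip e he
  haveI : Module.Finite O (LinearMap.ker π) := Module.IsNoetherian.finite O _
  obtain ⟨r, q, hq⟩ := Module.Finite.exists_fin' O (LinearMap.ker π)
  have hip' : Function.Exact π.dualMap i.dualMap := by
    intro φ
    constructor
    · intro h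
      have hk : LinearMap.ker π ≤ LinearMap.ker φ := fun z hz => LinearMap.congr_fun h ⟨z, hz⟩
      refine ⟨((LinearMap.ker π).liftQ φ hk) ∘ₗ (π.quotKerEquivOfSurjective hπ).symm.toLinearMap, ?_⟩
      refine LinearMap.ext fun z => ?_
      show (LinearMap.ker π).liftQ φ hk ((π.quotKerEquivOfSurjective hπ).symm (π z)) = φ z
      rw [show (π.quotKerEquivOfSurjective hπ).symm (π z) = Submodule.Quotient.mk z from
        (LinearEquiv.symm_apply_eq _).2 rfl]
      rfl
    · rintro ⟨ψ, rfl⟩
      exact LinearMap.ext fun z => by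
        show ψ (π z.1) = 0
        rw [z.2, map_zero]
  have hsurj := restrict_surjective hO π.dualMap i.dualMap (LinearMap.dualMap_injective_of_surjective hπ)
    hres hip' q.dualMap (LinearMap.dualMap_injective_of_surjective hq)
  intro Φ
  obtain ⟨Ψ, hΨ⟩ := hsurj Φ
  obtain ⟨f, rfl⟩ := (Module.bijective_dual_eval O (Fin s → O)).2 Ψ
  exact ⟨π f, hΨ⟩

/-- No self-extensions by free modules. -/
theorem subsingleton_ext_free {I W : Type u} [AddCommGroup I] [Module O I] [Module.Finite O I]
    [AddCommGroup W] [Module O W] {s : ℕ} (E : W ≃ₗ[O] (Fin s → O)) {Q : Type u} [AddCommGroup Q]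
    [Module O Q] [Module.Projective O Q] (e : I →ₗ[O] Q) (he : Function.Injective e) :
    Subsingleton (Ext.{u} (ModuleCat.of O I) (ModuleCat.of O W) 1) := by
  obtain ⟨r, π, hπ⟩ := Module.Finite.exists_fin' O I
  obtain ⟨F⟩ := addEquiv_ext_one_contravariant (N := W) (LinearMap.ker π).subtype π
    Subtype.val_injective hπ (LinearMap.exact_subtype_ker_map π)
  have hs := restrict_surjective hO (LinearMap.ker π).subtype π Subtype.val_injective hπ
    (LinearMap.exact_subtype_ker_map π) e he
  have : LinearMap.range (LinearMap.lcomp O W (LinearMap.ker π).subtype) = ⊤ := by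
    refine LinearMap.range_eq_top.2 fun φ => ?_
    choose ψ hψ using fun l : Fin s => hs ((LinearMap.proj l) ∘ₗ E.toLinearMap ∘ₗ φ)
    refine ⟨E.symm.toLinearMap ∘ₗ LinearMap.pi ψ, LinearMap.ext fun z => E.injective (funext fun l => ?_)⟩
    show E (E.symm (LinearMap.pi ψ z.1)) l = E (φ z) l
    rw [LinearEquiv.apply_symm_apply]
    exact LinearMap.congr_fun (hψ l) z
  haveI : Subsingleton (((LinearMap.ker π) →ₗ[O] W) ⧸ LinearMap.range (LinearMap.lcomp O W (LinearMap.ker π).subtype)) :=
    Submodule.Quotient.subsingleton_iff.2 this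
  exact F.injective.subsingleton

end

/-- Transport of `Ext¹` of a presented reflexive module to its dual. -/
theorem addEquiv_flip {K P M I : Type u} [AddCommGroup K] [Module O K] [AddCommGroup P] [Module O P]
    [AddCommGroup M] [Module O M] [AddCommGroup I] [Module O I] (i : K →ₗ[O] P)
    (μ : M ≃ₗ[O] (I →ₗ[O] O)) :
    Nonempty (((K →ₗ[O] M) ⧸ LinearMap.range (LinearMap.lcomp O M i)) ≃+
      ((I →ₗ[O] (K →ₗ[O] O)) ⧸ LinearMap.range (LinearMap.compRight O (M := I)
        (LinearMap.lcomp O O i)))) := by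
  let Φ : (K →ₗ[O] M) ≃ₗ[O] (I →ₗ[O] (K →ₗ[O] O)) :=
    (LinearEquiv.congrRight μ).trans LinearMap.lflip
  let Φ' : (P →ₗ[O] M) ≃ₗ[O] (I →ₗ[O] (P →ₗ[O] O)) :=
    (LinearEquiv.congrRight μ).trans LinearMap.lflip
  refine ⟨(Submodule.Quotient.equiv _ _ Φ ?_).toAddEquiv⟩
  ext φ
  simp only [Submodule.mem_map, LinearMap.mem_range]
  constructor
  · rintro ⟨_, ⟨ψ, rfl⟩, rfl⟩
    exact ⟨Φ' ψ, rfl⟩
  · rintro ⟨χ, rfl⟩
    refine ⟨_, ⟨Φ'.symm χ, rfl⟩, ?_⟩
    obtain ⟨ψ, rfl⟩ := Φ'.surjective χ
    rw [LinearEquiv.symm_apply_apply]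
    rfl

/-- `Ext¹(M, M) = Hom(M⁻¹, O/M⁻¹)`. -/
theorem ext_one_overring [IsDomain O] [IsNoetherianRing O] (hO : HasInjectiveDimensionLT (ModuleCat.of O O) 2)
    (K : Type u) [Field K] [Algebra O K] [IsFractionRing O K]
    (M : Subalgebra O K) (hfin : Module.Finite O M) :
    Nonempty (Ext.{u} (ModuleCat.of O M) (ModuleCat.of O M) 1 ≃+
      (↥((1 : Submodule O K) / Subalgebra.toSubmodule M) →ₗ[O]
        (O ⧸ Submodule.comap (Algebra.linearMap O K) ((1 : Submodule O K) / Subalgebra.toSubmodule M)))) := by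
  classical
  set I' : Submodule O K := (1 : Submodule O K) / Subalgebra.toSubmodule M with hI'
  set J : Ideal O := Submodule.comap (Algebra.linearMap O K) I' with hJ
  have halg : Function.Injective (algebraMap O K) := IsFractionRing.injective O K
  have hsm : ∀ (c : O) (z : K), c • z = algebraMap O K c * z := fun c z => Algebra.smul_def c z
  haveI : NoZeroSMulDivisors O M := ⟨fun {c} {x} h => by
    have h' : c • (x : K) = 0 := congrArg Subtype.val h
    rcases smul_eq_zero.1 h' with h1 | h1
    · exact Or.inl h1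
    · exact Or.inr (Subtype.ext h1)⟩
  obtain ⟨t, e, he⟩ := exists_injective_pi (O := O) K M
  -- the dual of `M`
  have hlin : ∀ (φ : M →ₗ[O] O) (m : M), algebraMap O K (φ m) = (m : K) * algebraMap O K (φ 1) := by
    intro φ m
    obtain ⟨a, b, hb, hab⟩ := IsFractionRing.div_surjective (A := O) (m : K)
    have h1 : b • m = a • (1 : M) := Subtype.ext (by
      show b • (m : K) = a • (1 : K)
      rw [hsm, hsm, mul_one, ← hab, mul_div_cancel₀ _ (IsFractionRing.to_map_ne_zero_of_mem_nonZeroDivisors hb)])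
    have h2 := congrArg (fun z => algebraMap O K (φ z)) h1
    simp only [map_smul, smul_eq_mul, map_mul] at h2
    refine mul_left_cancel₀ (IsFractionRing.to_map_ne_zero_of_mem_nonZeroDivisors (K := K) hb) ?_
    rw [h2, ← mul_assoc, ← hab, mul_div_cancel₀ _ (IsFractionRing.to_map_ne_zero_of_mem_nonZeroDivisors hb)]
  have hmemI : ∀ {x : K}, x ∈ I' ↔ ∀ m ∈ M, ∃ o : O, algebraMap O K o = x * m := fun {x} => by
    rw [hI', Submodule.mem_div_iff_forall_mul_mem]
    simp only [Submodule.mem_one, Subalgebra.mem_toSubmodule]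
  have hto : ∀ φ : M →ₗ[O] O, algebraMap O K (φ 1) ∈ I' := fun φ => by
    rw [hmemI]
    exact fun m hm => ⟨φ ⟨m, hm⟩, by rw [hlin φ ⟨m, hm⟩, mul_comm]⟩
  let eD : (M →ₗ[O] O) →ₗ[O] I' :=
    ((Algebra.linearMap O K) ∘ₗ (LinearMap.applyₗ (R := O) (1 : M))).codRestrict I' hto
  have heD : Function.Bijective eD := by
    refine ⟨fun φ ψ h => LinearMap.ext fun m => halg ?_, fun x => ?_⟩
    · rw [hlin φ m, hlin ψ m]
      exact congrArg (fun z : I' => (m : K) * (z : K)) h
    · choose o ho using fun m : M => hmemI.1 x.2 m m.2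
      refine ⟨{ toFun := o, map_add' := fun a b => halg ?_, map_smul' := fun c a => halg ?_ }, Subtype.ext ?_⟩
      · rw [map_add, ho, ho, ho]; simp [mul_add]
      · simp only [RingHom.id_apply, smul_eq_mul, map_mul, ho]
        rw [show ((c • a : M) : K) = algebraMap O K c * (a : K) from hsm c a]
        ring
      · show algebraMap O K (o 1) = (x : K)
        rw [ho]; simp
  let ED := LinearEquiv.ofBijective eD heD
  have hED : ∀ (x : I') (m : M), algebraMap O K (ED.symm x m) = (x : K) * (m : K) := fun x m => by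
    obtain ⟨φ, rfl⟩ := heD.2 x
    rw [show ED.symm (eD φ) = φ from (LinearEquiv.symm_apply_eq ED).2 rfl, hlin, mul_comm]
    rfl
  let μ : M ≃ₗ[O] (I' →ₗ[O] O) :=
    (LinearEquiv.ofBijective _ (eval_bijective hO e he)).trans (LinearEquiv.congrLeft O O ED)
  -- the ideal
  have hI1 : I' ≤ 1 := fun x hx => by
    obtain ⟨o, ho⟩ := hmemI.1 hx 1 M.one_mem
    exact Submodule.mem_one.2 ⟨o, by rw [ho, mul_one]⟩
  let θ : J →ₗ[O] I' := ((Algebra.linearMap O K) ∘ₗ J.subtype).codRestrict I' (fun z => z.2)
  have hθ : Function.Bijective θ := by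
    refine ⟨fun a b h => Subtype.ext (halg (congrArg Subtype.val h)), fun x => ?_⟩
    obtain ⟨o, ho⟩ := Submodule.mem_one.1 (hI1 x.2)
    exact ⟨⟨o, show algebraMap O K o ∈ I' from ho ▸ x.2⟩, Subtype.ext ho⟩
  let Θ := LinearEquiv.ofBijective θ hθ
  let j : I' →ₗ[O] O := J.subtype ∘ₗ Θ.symm.toLinearMap
  have hj : Function.Injective j := Subtype.val_injective.comp Θ.symm.injective
  haveI : Module.Finite O J := Module.IsNoetherian.finite O _
  haveI : Module.Finite O I' := Module.Finite.equiv Θ
  -- presentation of `M` and its dual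
  obtain ⟨s, π, hπ⟩ := Module.Finite.exists_fin' O M
  let i := (LinearMap.ker π).subtype
  obtain ⟨E₁⟩ := addEquiv_ext_one_contravariant (N := M) i π Subtype.val_injective hπ
    (LinearMap.exact_subtype_ker_map π)
  obtain ⟨E₂⟩ := addEquiv_flip i μ
  have hip : Function.Exact ((LinearMap.lcomp O O π) ∘ₗ ED.symm.toLinearMap) (LinearMap.lcomp O O i) := by
    intro φ
    constructor
    · intro h
      have hk : LinearMap.ker π ≤ LinearMap.ker φ := fun z hz => LinearMap.congr_fun h ⟨z, hz⟩
      refine ⟨ED (((LinearMap.ker π).liftQ φ hk) ∘ₗ (π.quotKerEquivOfSurjective hπ).symm.toLinearMap), ?_⟩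
      rw [LinearMap.comp_apply, LinearEquiv.coe_coe, LinearEquiv.symm_apply_apply]
      refine LinearMap.ext fun z => ?_
      show (LinearMap.ker π).liftQ φ hk ((π.quotKerEquivOfSurjective hπ).symm (π z)) = φ z
      rw [show (π.quotKerEquivOfSurjective hπ).symm (π z) = Submodule.Quotient.mk z from
        (LinearEquiv.symm_apply_eq _).2 rfl]
      rfl
    · rintro ⟨x, rfl⟩
      exact LinearMap.ext fun z => by
        show (ED.symm x) (π z.1) = 0
        rw [z.2, map_zero]
  haveI := subsingleton_ext_free hO ((Pi.basisFun O (Fin s)).toDualEquiv.symm) j hj (I := I')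
  obtain ⟨E₃⟩ := addEquiv_ext_one_covariant (I := I') ((LinearMap.lcomp O O π) ∘ₗ ED.symm.toLinearMap) (LinearMap.lcomp O O i)
    ((LinearMap.dualMap_injective_of_surjective hπ).comp ED.symm.injective)
    (restrict_surjective hO i π Subtype.val_injective hπ (LinearMap.exact_subtype_ker_map π) e he) hip
  -- the second sequence
  haveI := subsingleton_ext hO j hj 1 le_rfl
  have hip' : Function.Exact j J.mkQ := fun o => by
    rw [Submodule.mkQ_apply, Submodule.Quotient.mk_eq_zero]
    refine ⟨fun h => ⟨Θ ⟨o, h⟩, ?_⟩, ?_⟩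
    · show ((Θ.symm (Θ ⟨o, h⟩) : J) : O) = o
      rw [LinearEquiv.symm_apply_apply]
    · rintro ⟨x, rfl⟩
      exact (Θ.symm x).2
  obtain ⟨E₄⟩ := addEquiv_ext_one_covariant (I := I') j J.mkQ hj (Submodule.mkQ_surjective _) hip'
  have hzero : LinearMap.range (LinearMap.compRight O (M := I') J.mkQ) = ⊥ := by
    rw [LinearMap.range_eq_bot]
    refine LinearMap.ext fun ψ => LinearMap.ext fun x => ?_
    show Submodule.Quotient.mk (ψ x) = (0 : O ⧸ J)
    rw [Submodule.Quotient.mk_eq_zero]
    obtain ⟨m, rfl⟩ := μ.surjective ψ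
    show algebraMap O K (ED.symm x m) ∈ I'
    rw [hED, hmemI]
    intro m' hm'
    obtain ⟨o, ho⟩ := hmemI.1 x.2 ((m : K) * m') (M.mul_mem m.2 hm')
    exact ⟨o, by rw [ho, mul_assoc]⟩
  exact ⟨((E₁.trans E₂).trans E₃.symm).trans (E₄.trans
    ((Submodule.quotEquivOfEqBot _ hzero).toAddEquiv))⟩

end Groth.Agent.TFDualLib
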